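import Cfsg.Agent.H456.PU.Phi
import Cfsg.Agent.H767.PU.Auts

/-!
# S5258, `StL1a` for `q = 2` (helper456)
-/

set_option autoImplicit false
set_option linter.unusedSectionVars false
set_option linter.unnecessarySeqFocus false

namespace Cfsg.Agent.H456.PU

open Cfsg Cfsg.FusionSystem Cfsg.Agent.H756.PU Cfsg.Agent.H802

universe u

variable {K : Type u} [Field K] [StarRing K]

theorem exists_dat {p n : ℕ} (hK : HypK K p n) (h2 : p ^ n = 2) : ∃ w : K, Dat K w := by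
  classical
  have hp : p = 2 := by
    have h := hK.hn
    have : p ∣ 2 := by rw [← h2]; exact dvd_pow_self p (by omega)
    exact (Nat.prime_dvd_prime_iff_eq hK.pp Nat.prime_two).1 this
  have := hK.char
  have := hK.fin
  have hc := hK.card
  have hst := hK.star_eq
  rw [h2] at hc hst
  subst hp
  have h20 : (2 : K) = 0 := CharP.cast_eq_zero K 2
  have : Fintype K := Fintype.ofFinite K
  have hcard : Fintype.card K = 4 := by rw [← Nat.card_eq_fintype_card, hc]; norm_num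
  have h4 : ∀ x : K, x * x * x * x = x := by
    intro x
    have h := FiniteField.pow_card x
    rw [hcard] at h
    linear_combination h
  -- an element different from `0`, `1`
  obtain ⟨w, hw⟩ : ∃ w : K, w ≠ 0 ∧ w ≠ 1 := by
    by_contra hcon
    push Not at hcon
    have h3 : (Finset.univ : Finset K) ⊆ {0, 1} := by
      intro x _
      by_cases hx : x = 0
      · simp [hx]
      · simp [hcon x hx]
    have h5 := Finset.card_le_card h3
    rw [Finset.card_univ, hcard] at h5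
    have h6 := Finset.card_le_two (a := (0 : K)) (b := 1)
    omega
  refine ⟨w, h20, fun x => by rw [hst x]; ring, h4, ?_⟩
  have h5 : w * ((w - 1) * (w * w + w + 1)) = 0 := by linear_combination h4 w
  rcases mul_eq_zero.1 h5 with h5 | h5
  · exact absurd h5 hw.1
  rcases mul_eq_zero.1 h5 with h5 | h5
  · exact absurd (sub_eq_zero.1 h5) hw.2
  · linear_combination h5 - (w + 1) * h20

variable {w : K} (D : Dat K w)

include D

/-- every automorphism of `K` has order at most two -/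
theorem tau_sq (τ : K ≃+* K) (x : K) : τ (τ x) = x := by
  have hw := D.hw
  have h2 := D.two
  have h0 : τ w = w ∨ τ w = w + 1 := by
    have h1 : τ w * τ w = τ w + 1 := by rw [← map_mul, hw, map_add, map_one]
    rcases D.cases (τ w) with h | h | h | h
    · rw [h] at h1
      exfalso
      simp at h1
    · rw [h] at h1
      exfalso
      simp at h1
    · exact Or.inl h
    · exact Or.inr h
  have h3 : τ (τ w) = w := by
    rcases h0 with h | h
    · rw [h, h]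
    · rw [h, map_add, map_one, h]; linear_combination h2
  rcases D.cases x with rfl | rfl | rfl | rfl
  · simp
  · simp
  · exact h3
  · rw [map_add, map_add, map_one, map_one, h3]

theorem tor_mul {α β : MulAut (UG K)} {x1 x2 y1 y2 : K} {τ σ : K ≃+* K} (hα : IsTor α x1 x2 τ)
    (hβ : IsTor β y1 y2 σ) (ρ : K ≃+* K) (hρ : ∀ x, ρ x = τ (σ x)) :
    IsTor (α * β) (x1 * τ y1) (x2 * τ y2) ρ where
  ne1 := mul_ne_zero hα.ne1 ((map_ne_zero τ).2 hβ.ne1)
  ne2 := mul_ne_zero hα.ne2 ((map_ne_zero τ).2 hβ.ne2)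
  tst x := by rw [hρ, hρ, hβ.tst, hα.tst]
  r g := by
    rw [MulAut.mul_apply, hα.r, hβ.r, map_mul, map_mul, map_inv₀, hρ, mul_inv]; ring
  u1 g := by
    rw [MulAut.mul_apply, hα.u1, hβ.u1, map_mul, hρ]; ring
  u2 g := by
    rw [MulAut.mul_apply, hα.u2, hβ.u2, map_mul, hρ]; ring
  a g := by
    rw [MulAut.mul_apply, hα.a, hβ.a, map_mul, map_mul, hα.tst, hρ, star_mul']; ring
  b g := by
    rw [MulAut.mul_apply, hα.b, hβ.b, map_mul, map_mul, hα.tst, hρ, star_mul']; ring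
  c g := by
    rw [MulAut.mul_apply, hα.c, hβ.c, map_mul, map_mul, hα.tst, hρ, star_mul']; ring

theorem tor_ext {α β : MulAut (UG K)} {x1 x2 : K} {τ : K ≃+* K} (hα : IsTor α x1 x2 τ) (hβ : IsTor β x1 x2 τ) :
    α = β := by
  ext g
  · rw [hα.r, hβ.r]
  · rw [hα.u1, hβ.u1]
  · rw [hα.u2, hβ.u2]
  · rw [hα.a, hβ.a]
  · rw [hα.b, hβ.b]
  · rw [hα.c, hβ.c]

theorem tor_one : IsTor (1 : MulAut (UG K)) 1 1 (RingEquiv.refl K) where
  ne1 := one_ne_zero
  ne2 := one_ne_zero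
  tst x := rfl
  r g := by simp
  u1 g := by simp
  u2 g := by simp
  a g := by simp
  b g := by simp
  c g := by simp

/-- an element of odd order of the torus has no field part -/
theorem tor_refl {α : MulAut (UG K)} {x1 x2 : K} {τ : K ≃+* K} (hα : IsTor α x1 x2 τ) {m : ℕ}
    (hm : α ^ (2 * m + 1) = 1) : ∃ y1 y2, IsTor α y1 y2 (RingEquiv.refl K) := by
  have h1 : IsTor (α * α) (x1 * τ x1) (x2 * τ x2) (RingEquiv.refl K) :=
    tor_mul D hα hα _ (fun x => (tau_sq D τ x).symm)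
  have h2 : ∀ k : ℕ, ∃ y1 y2, IsTor ((α * α) ^ k) y1 y2 (RingEquiv.refl K) := by
    intro k
    induction k with
    | zero => exact ⟨1, 1, by rw [pow_zero]; exact tor_one D⟩
    | succ k ih =>
      obtain ⟨y1, y2, h⟩ := ih
      exact ⟨_, _, by rw [pow_succ]; exact tor_mul D h h1 _ (fun x => rfl)⟩
  obtain ⟨y1, y2, h3⟩ := h2 (m + 1)
  have h4 : (α * α) ^ (m + 1) = α := by
    rw [← sq, ← pow_mul, show 2 * (m + 1) = (2 * m + 1) + 1 by ring, pow_succ, hm, one_mul]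
  rw [h4] at h3
  exact ⟨y1, y2, h3⟩

/-- an automorphism trivial on `W` has square one -/
theorem sq_of_ker {δ : MulAut (Q1 K)} (h : Phi D δ = 1) : δ * δ = 1 := by
  have h1 : ∀ g, pr (δ g) = pr g := by
    intro g
    rw [← Phi_pr D, h]; rfl
  ext1 g
  have h2 : pr (δ g * g⁻¹) = 0 := by rw [pr_mul, pr_inv, h1, add_neg_cancel]
  have h3 : δ g = (δ g * g⁻¹) * g := by group
  have h4 : (δ g * g⁻¹) * (δ g * g⁻¹) = 1 := by
    apply ext_a
    · rw [(sq_eq D _).1, pr_one]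
    · rw [(sq_eq D _).2, h2]
      simp [qf]
  rw [MulAut.mul_apply, MulAut.one_apply]
  calc δ (δ g) = δ ((δ g * g⁻¹) * g) := by rw [← h3]
    _ = (δ g * g⁻¹) * δ g := by rw [map_mul, fix_Z D δ h2]
    _ = (δ g * g⁻¹) * (δ g * g⁻¹) * g := by group
    _ = g := by rw [h4, one_mul]

omit D in
/-- conjugations as automorphisms of `Q₁` -/
theorem conj_aut (x : UG K) : ∃ γ ∈ autInducedBy (⊤ : Subgroup (UG K)) (Q1 K),
    ∀ e : Q1 K, ((γ e : Q1 K) : UG K) = x * e * x⁻¹ := by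
  refine ⟨MulAut.conjNormal x, ?_, fun e => rfl⟩
  rw [mem_autInducedBy_iff]
  exact ⟨x, trivial, fun e => rfl⟩

theorem Phi_conj {γ : MulAut (Q1 K)} {x : UG K} (h : ∀ e : Q1 K, ((γ e : Q1 K) : UG K) = x * e * x⁻¹) :
    Phi D γ = pP x.u2 (star x.c) := by
  ext1 ⟨b, u, r⟩
  rw [Phi_norm D γ x (tor_one D) h]
  simp

/-- every element of the quaternion group is induced -/
theorem exists_P {s c : K} (h : c + star c + s * star s = 0) :
    ∃ γ ∈ autInducedBy (⊤ : Subgroup (UG K)) (Q1 K), Phi D γ = pP s c := by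
  have hx : star c + star (star c) + s * star s = 0 := by
    rw [star_star]; linear_combination h
  let x : UG K := { r := 0, u1 := 0, u2 := s, a := 0, b := 0, c := star c, ha := by simp, hc := hx }
  obtain ⟨γ, hγ, hx'⟩ := conj_aut x
  refine ⟨γ, hγ, ?_⟩
  rw [Phi_conj D hx']
  change pP s (star (star c)) = _
  rw [star_star]

theorem Phi_w1 {κ : K} {γ : MulAut (Q1 K)} (h : IsW1 κ γ) : Phi D γ = w1p := by
  have hκ : κ = 1 := by
    have h1 := h.tr
    rw [D.st] at h1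
    have h2 : κ * (κ - 1) = 0 := by linear_combination h1 - κ * D.two
    rcases mul_eq_zero.1 h2 with h2 | h2
    · exact absurd h2 h.ne
    · exact sub_eq_zero.1 h2
  subst hκ
  ext1 ⟨b, u, r⟩
  rw [Phi_of, pr, h.b, h.u1, h.r, w1p_apply]
  change ((1 : K) * r, u, - (1 : K)⁻¹ * b) = (r, u, b)
  rw [one_mul, inv_one, neg_mul, one_mul, D.neg]

theorem l1a_core (hTI : StTI.{u}) {p n : ℕ} (hK : HypK K p n) (h2 : p ^ n = 2)
    (Γ : Subgroup (MulAut (Q1 K))) (T : Subgroup (MulAut (UG K))) (hP : Par p (Q1 K) Γ T) :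
    HasTor T (fun t => t * (star t)⁻¹) (fun t => t ^ 2 * (star t)⁻¹) ∧
    (∀ l ∈ Lam1 K, ∃ γ ∈ Γ, Phi D γ = Phi D l) ∧
    (∀ γ ∈ Γ, ∃ l ∈ Lam1 K, ∃ d ∈ T, ∃ δ : MulAut (Q1 K), IsR d δ ∧ Phi D γ = Phi D (l * δ)) := by
  classical
  have hp : p = 2 := by
    have h := hK.hn
    have : p ∣ 2 := by rw [← h2]; exact dvd_pow_self p (by omega)
    exact (Nat.prime_dvd_prime_iff_eq hK.pp Nat.prime_two).1 this
  subst hp
  have := hK.fin
  obtain ⟨hcard, hpg, -, hTT, -, hW1⟩ := Cfsg.Agent.H767.PU.stGrp hK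
  have : Finite (UG K) := Nat.finite_of_card_ne_zero (by rw [hcard, h2]; norm_num)
  have : Finite (MulAut (Q1 K)) := Finite.of_injective (fun e : MulAut (Q1 K) => (e : Q1 K → Q1 K)) DFunLike.coe_injective
  obtain ⟨hti, -, -, hchar⟩ := hTI hK (Q1 K) (Or.inl rfl)
  have hTIA := hti Γ hP.indu hP.syl
  set A := autInducedBy (⊤ : Subgroup (UG K)) (Q1 K) with hA
  have : Fact (Nat.Prime 2) := ⟨Nat.prime_two⟩
  have hA2 : IsPGroup 2 A := isPGroup_autInducedBy hpg _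
  -- elements with image in the quaternion group are induced
  have hmemA : ∀ δ ∈ Γ, ∀ α ∈ A, Phi D δ = Phi D α → δ ∈ A := by
    let Γ0 : Subgroup (MulAut (Q1 K)) := Γ ⊓ (A.map (Phi D)).comap (Phi D)
    have hAle : A ≤ Γ0 := fun a ha => ⟨hP.indu ha, ⟨a, ha, rfl⟩⟩
    have hp0 : IsPGroup 2 Γ0 := by
      rintro ⟨δ, hδ, α, hα, he⟩
      obtain ⟨k, hk⟩ := hA2 ⟨α, hα⟩
      have hk' : α ^ 2 ^ k = 1 := congrArg Subtype.val hk
      have h1 : Phi D (δ ^ 2 ^ k) = 1 := by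
        rw [map_pow, ← he, ← map_pow, hk', map_one]
      refine ⟨k + 1, Subtype.ext ?_⟩
      change δ ^ 2 ^ (k + 1) = 1
      rw [pow_succ, pow_mul, sq, sq_of_ker D h1]
    obtain ⟨g, hg, hconj⟩ := hP.syl Γ0 inf_le_left hp0
    have hcardle : Nat.card Γ0 ≤ Nat.card A := by
      refine Nat.card_le_card_of_injective (fun x : Γ0 => (⟨g * x * g⁻¹, hconj x x.2⟩ : A)) ?_
      intro x y hxy
      have h1 : g * x * g⁻¹ = g * y * g⁻¹ := congrArg Subtype.val hxy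
      exact Subtype.ext (mul_left_cancel (mul_right_cancel h1))
    have hEq : A = Γ0 := Subgroup.eq_of_le_of_card_ge hAle hcardle
    intro δ hδ α hα he
    rw [hEq]
    exact ⟨hδ, ⟨α, hα, he.symm⟩⟩
  -- the transvection
  obtain ⟨z, hzA, hz⟩ := exists_P D (zz_rel D)
  have hzI : z ∉ Inn (Q1 K) := by
    rintro ⟨q, rfl⟩
    have h1 : Phi D (MulAut.conj q) (0, 0, 1) = (0, 0, 1) := by
      rw [Phi_of, MulAut.conj_apply, pr_mul, pr_mul, pr_inv]
      rw [add_comm (pr q), add_neg_cancel_right]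
      rfl
    rw [hz, pP_apply] at h1
    have := congrArg Prod.fst h1
    simp at this
  have hnorm : ∀ γ ∈ Γ, Phi D γ * pP 0 1 = pP 0 1 * Phi D γ → ∃ x : UG K, ∃ d ∈ T, ∃ x1 x2 : K,
      IsTor d x1 x2 (RingEquiv.refl K) ∧ ∀ e : Q1 K, ((γ e : Q1 K) : UG K) = x * d e * x⁻¹ := by
    intro γ hγ hc
    have h1 : γ * z * γ⁻¹ ∈ A := by
      refine hmemA _ (Γ.mul_mem (Γ.mul_mem hγ (hP.indu hzA)) (Γ.inv_mem hγ)) z hzA ?_
      rw [map_mul, map_mul, map_inv, hz, hc, mul_inv_cancel_right]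
    obtain ⟨x, d, hd, he⟩ := hP.norm γ hγ (hTIA γ hγ z hzA hzI h1)
    obtain ⟨y1, y2, τ, hτ⟩ := hTT d (hP.D_le hd)
    have hfin : Nat.card T ≠ 0 := by
      intro h0
      have := hP.D_cop
      rw [h0] at this
      norm_num at this
    have : Finite T := Nat.finite_of_card_ne_zero hfin
    have hodd : Odd (Nat.card T) := Nat.coprime_two_right.1 hP.D_cop
    obtain ⟨m, hm⟩ := hodd
    have hdm : d ^ (2 * m + 1) = 1 := by
      rw [← hm]
      have := pow_card_eq_one' (x := (⟨d, hd⟩ : T))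
      exact congrArg Subtype.val this
    obtain ⟨x1, x2, h3⟩ := tor_refl D hτ hdm
    exact ⟨x, d, hd, x1, x2, h3, he⟩
  -- the group `X`
  have hH : Hyp (Γ.map (Phi D)) := by
    refine ⟨?_, ?_, ?_⟩
    · rintro _ ⟨γ, -, rfl⟩
      exact isom_Phi D γ
    · intro s c h
      obtain ⟨γ, hγ, he⟩ := exists_P D h
      exact ⟨γ, hP.indu hγ, he⟩
    · rintro _ ⟨γ, hγ, rfl⟩ hc
      obtain ⟨x, d, hd, x1, x2, ht, he⟩ := hnorm γ hγ hc
      refine ⟨x.u2, star x.c, x1 * x2⁻¹, x1, ?_, mul_ne_zero ht.ne1 (inv_ne_zero ht.ne2), ht.ne1, fun b u r =>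
        Phi_norm D γ x ht he b u r⟩
      rw [star_star]
      linear_combination x.hc
  have hne : ∃ g ∈ Γ.map (Phi D), g * pP 0 1 ≠ pP 0 1 * g := by
    have hnn := hP.nn
    push Not at hnn
    obtain ⟨γ, hγ, hno⟩ := hnn
    refine ⟨_, ⟨γ, hγ, rfl⟩, fun hc => hno ?_⟩
    have h1 : γ * z * γ⁻¹ ∈ A := by
      refine hmemA _ (Γ.mul_mem (Γ.mul_mem hγ (hP.indu hzA)) (Γ.inv_mem hγ)) z hzA ?_
      have hc' : Phi D γ * pP 0 1 = pP 0 1 * Phi D γ := hc
      rw [map_mul, map_mul, map_inv, hz, hc', mul_inv_cancel_right]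
    exact hTIA γ hγ z hzA hzI h1
  obtain ⟨⟨γs, hγs, hs⟩, hw1, hall⟩ := main D hH (Units.mk0 w D.w_ne) rfl hne
  have hres : ∀ d : MulAut (UG K), ∃ δ : MulAut (Q1 K), IsR d δ := by
    intro d
    exact ⟨(d.subgroupMap (Q1 K)).trans (MulEquiv.subgroupCongr (hchar d)), fun e => rfl⟩
  -- elements of `Γ` commuting with the transvection
  have hcomm : ∀ γ ∈ Γ, Phi D γ * pP 0 1 = pP 0 1 * Phi D γ → ∃ l ∈ A, ∃ d ∈ T, ∃ δ : MulAut (Q1 K), IsR d δ ∧
      γ = l * δ := by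
    intro γ hγ hc
    obtain ⟨x, d, hd, x1, x2, ht, he⟩ := hnorm γ hγ hc
    obtain ⟨γx, hγx, hx⟩ := conj_aut x
    obtain ⟨δ, hδ⟩ := hres d
    refine ⟨γx, hγx, d, hd, δ, hδ, ?_⟩
    ext1 e
    apply Subtype.ext
    rw [he, MulAut.mul_apply, hx, hδ]
  have hAL : A ≤ Lam1 K := le_sup_left
  refine ⟨?_, ?_, ?_⟩
  · obtain ⟨x, d, hd, x1, x2, ht, he⟩ := hnorm γs hγs (by rw [hs]; exact sc_comm D _ _ _)
    have f1 := Phi_norm D γs x ht he 0 0 1
    have f2 := Phi_norm D γs x ht he 0 1 0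
    rw [hs, sc_apply, pP_apply] at f1 f2
    simp only [Units.val_mk0, Prod.mk.injEq, mul_zero, mul_one, add_zero, zero_add] at f1 f2
    have hx1 : x1 = w := f2.2.1.symm
    have hx2 : x2 = 1 := by
      have h3 : w = w * x2⁻¹ := by rw [← hx1]; rw [← hx1] at f1; exact f1.2.2
      have h4 : x2⁻¹ = 1 := by
        apply mul_left_cancel₀ D.w_ne
        rw [← h3, mul_one]
      exact inv_eq_one.1 h4
    subst hx2
    rw [hx1] at ht
    intro t ht0 α hα
    have h3 : (star t)⁻¹ = t := by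
      rw [D.st]
      exact inv_eq_of_mul_eq_one_right (D.cube ht0)
    simp only [h3] at hα
    have h4 : t ^ 2 * t = 1 := by rw [sq]; exact D.cube ht0
    rw [h4] at hα
    rcases D.cases t with h | h | h | h
    · exact absurd h ht0
    · rw [h, mul_one] at hα
      rw [tor_ext D hα (tor_one D)]
      exact T.one_mem
    · rw [h] at hα
      have h5 := tor_mul D ht ht (RingEquiv.refl K) (fun x => rfl)
      have h6 : IsTor (d * d) (w * w) 1 (RingEquiv.refl K) := by simpa using h5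
      rw [tor_ext D hα h6]
      exact T.mul_mem hd hd
    · have h5 : t * t = w := by rw [h]; linear_combination D.hw + (w + 1) * D.two
      rw [h5] at hα
      rw [tor_ext D hα ht]
      exact hd
  · intro l hl
    have h3 : Lam1 K ≤ (Γ.map (Phi D)).comap (Phi D) := by
      refine sup_le ?_ ?_
      · intro a ha
        exact ⟨a, hP.indu ha, rfl⟩
      · rw [Subgroup.closure_le]
        rintro γ ⟨κ, hκ⟩
        change Phi D γ ∈ Γ.map (Phi D)
        rw [Phi_w1 D hκ]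
        exact hw1
    obtain ⟨γ, hγ, he⟩ := h3 hl
    exact ⟨γ, hγ, he⟩
  · intro γ hγ
    by_cases hc : Phi D γ * pP 0 1 = pP 0 1 * Phi D γ
    · obtain ⟨l, hl, d, hd, δ, hδ, he⟩ := hcomm γ hγ hc
      exact ⟨l, hAL hl, d, hd, δ, hδ, by rw [he]⟩
    · obtain ⟨s, c, hr, hc'⟩ := hall _ ⟨γ, hγ, rfl⟩ hc
      obtain ⟨γp, hγp, hep⟩ := exists_P D hr
      obtain ⟨γ1, hγ1, he1⟩ := hw1
      obtain ⟨γw, hγw⟩ := hW1 1 one_ne_zero (by rw [star_one]; exact D.add_self 1)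
      have hew := Phi_w1 D hγw
      have hν : (γp * γ1)⁻¹ * γ ∈ Γ := Γ.mul_mem (Γ.inv_mem (Γ.mul_mem (hP.indu hγp) hγ1)) hγ
      have heν : Phi D ((γp * γ1)⁻¹ * γ) = (pP s c * w1p)⁻¹ * Phi D γ := by
        rw [map_mul, map_inv, map_mul, hep, he1]
      obtain ⟨l, hl, d, hd, δ, hδ, he⟩ := hcomm _ hν (by rw [heν]; exact hc')
      refine ⟨γp * γw * l, mul_mem (mul_mem (hAL hγp) (le_sup_right (a := A)
        (Subgroup.subset_closure ⟨1, hγw⟩))) (hAL hl), d, hd, δ, hδ, ?_⟩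
      rw [he] at heν
      calc Phi D γ = (pP s c * w1p) * ((pP s c * w1p)⁻¹ * Phi D γ) := by group
        _ = (pP s c * w1p) * Phi D (l * δ) := by rw [← heν]
        _ = Phi D (γp * γw * l * δ) := by
            rw [map_mul, map_mul, map_mul, map_mul, hep, hew]
            group

end Cfsg.Agent.H456.PU

namespace Cfsg.Agent.H456.PU

open Cfsg Cfsg.FusionSystem Cfsg.Agent.H756.PU

universe u

/-- **L1a for `q = 2`** -/
theorem stL1a_two (hTI : StTI.{u}) {K : Type u} [Field K] [StarRing K] {p n : ℕ} (hK : HypK K p n) (h2 : p ^ n = 2)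
    (Γ : Subgroup (MulAut (Q1 K))) (D : Subgroup (MulAut (UG K))) (hP : Par p (Q1 K) Γ D) :
    HasTor D (fun t => t * (star t)⁻¹) (fun t => t ^ 2 * (star t)⁻¹) ∧
    (∀ l ∈ Lam1 K, ∃ γ ∈ Γ, ∀ e : Q1 K, ((γ e : Q1 K) : UG K).r = ((l e : Q1 K) : UG K).r ∧
      ((γ e : Q1 K) : UG K).u1 = ((l e : Q1 K) : UG K).u1 ∧ ((γ e : Q1 K) : UG K).b = ((l e : Q1 K) : UG K).b) ∧
    (∀ γ ∈ Γ, ∃ l ∈ Lam1 K, ∃ d ∈ D, ∃ δ : MulAut (Q1 K), IsR d δ ∧
      ∀ e : Q1 K, ((γ e : Q1 K) : UG K).r = (((l * δ) e : Q1 K) : UG K).r ∧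
      ((γ e : Q1 K) : UG K).u1 = (((l * δ) e : Q1 K) : UG K).u1 ∧
      ((γ e : Q1 K) : UG K).b = (((l * δ) e : Q1 K) : UG K).b) := by
  obtain ⟨w, dat⟩ := exists_dat hK h2
  obtain ⟨h3, h4, h5⟩ := l1a_core dat hTI hK h2 Γ D hP
  have key : ∀ γ l : MulAut (Q1 K), Phi dat γ = Phi dat l → ∀ e : Q1 K,
      ((γ e : Q1 K) : UG K).r = ((l e : Q1 K) : UG K).r ∧
      ((γ e : Q1 K) : UG K).u1 = ((l e : Q1 K) : UG K).u1 ∧ ((γ e : Q1 K) : UG K).b = ((l e : Q1 K) : UG K).b := by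
    intro γ l h e
    have h6 : pr (γ e) = pr (l e) := by rw [← Phi_pr dat, ← Phi_pr dat, h]
    simp only [pr, Prod.mk.injEq] at h6
    exact ⟨h6.2.2, h6.2.1, h6.1⟩
  refine ⟨h3, fun l hl => ?_, fun γ hγ => ?_⟩
  · obtain ⟨γ, hγ, he⟩ := h4 l hl
    exact ⟨γ, hγ, key _ _ he⟩
  · obtain ⟨l, hl, d, hd, δ, hδ, he⟩ := h5 γ hγ
    exact ⟨l, hl, d, hd, δ, hδ, key _ _ he⟩

end Cfsg.Agent.H456.PU
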