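import Cfsg.Agent.H456.PU.X
import Cfsg.Agent.H756.PU.Stmts
import Cfsg.Agent.H802.FusBasic

/-!
# S5258, `StL1a` for `q = 2`: the action of `Aut(Q₁)` on `W = Q₁/Z` (helper456)
-/

set_option autoImplicit false
set_option linter.unusedSectionVars false
set_option linter.unnecessarySeqFocus false

namespace Cfsg.Agent.H456.PU

open Cfsg Cfsg.FusionSystem Cfsg.Agent.H756.PU

universe u

variable {K : Type u} [Field K] [StarRing K]

/-- the coordinates of `W` -/
def pr (g : Q1 K) : K × K × K := ((g : UG K).b, (g : UG K).u1, (g : UG K).r)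

theorem q_u2 (g : Q1 K) : (g : UG K).u2 = 0 := g.2.1

theorem q_c (g : Q1 K) : (g : UG K).c = 0 := g.2.2

theorem pr_mul (g h : Q1 K) : pr (g * h) = pr g + pr h := by
  simp only [pr, Subgroup.coe_mul, UG.mul_b, UG.mul_u1, UG.mul_r, q_u2, q_c, star_zero, mul_zero, add_zero,
    sub_zero, Prod.mk_add_mk]

theorem pr_one : pr (1 : Q1 K) = 0 := by
  have h := pr_mul (1 : Q1 K) 1
  rw [mul_one] at h
  exact left_eq_add.1 h

theorem pr_inv (g : Q1 K) : pr g⁻¹ = - pr g := by
  rw [eq_neg_iff_add_eq_zero, ← pr_mul, inv_mul_cancel, pr_one]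

theorem mul_a' (g h : Q1 K) : ((g * h : Q1 K) : UG K).a = (g : UG K).a + (h : UG K).a - (g : UG K).r * star (h : UG K).b +
    star (g : UG K).r * (h : UG K).b - (g : UG K).u1 * star (h : UG K).u1 := by
  rw [Subgroup.coe_mul, UG.mul_a, UG.d, q_u2, q_c, star_zero]
  ring

theorem ext_a {g h : Q1 K} (h1 : pr g = pr h) (h2 : (g : UG K).a = (h : UG K).a) : g = h := by
  simp only [pr, Prod.mk.injEq] at h1
  apply Subtype.ext
  exact UG.ext h1.2.2 h1.2.1 ((q_u2 g).trans (q_u2 h).symm) h2 h1.1 ((q_c g).trans (q_c h).symm)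

theorem comm_of_pr_zero {g : Q1 K} (h : pr g = 0) (k : Q1 K) : g * k = k * g := by
  apply ext_a
  · rw [pr_mul, pr_mul, add_comm]
  · rw [mul_a', mul_a']
    have h1 : (g : UG K).b = 0 ∧ (g : UG K).u1 = 0 ∧ (g : UG K).r = 0 := by
      simpa [pr, Prod.ext_iff] using h
    rw [h1.1, h1.2.1, h1.2.2]
    simp only [star_zero]
    ring

variable {w : K} (D : Dat K w)

/-- a section -/
def lift (x : K × K × K) : Q1 K :=
  ⟨{  r := x.2.2
      u1 := x.2.1
      u2 := 0
      a := w * (x.2.1 * star x.2.1)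
      b := x.1
      c := 0
      ha := by
        have h : star (x.2.1 * star x.2.1) = x.2.1 * star x.2.1 := by rw [star_mul', star_star, mul_comm]
        rw [star_mul', h, D.st w]
        linear_combination (x.2.1 * star x.2.1) * D.hw + (x.2.1 * star x.2.1) * (w + 1) * D.two
      hc := by simp }, ⟨rfl, rfl⟩⟩

theorem pr_lift (x : K × K × K) : pr (lift D x) = x := rfl

include D

theorem pr_zero_of_comm {g : Q1 K} (h : ∀ k, g * k = k * g) : pr g = 0 := by
  have h2 := D.two
  have hw := D.hw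
  have key : ∀ x : K × K × K, - (g : UG K).r * star x.1 + star (g : UG K).r * x.1 - (g : UG K).u1 * star x.2.1 =
      - x.2.2 * star (g : UG K).b + star x.2.2 * (g : UG K).b - x.2.1 * star (g : UG K).u1 := by
    intro x
    have h3 := congrArg (fun k : Q1 K => (k : UG K).a) (h (lift D x))
    rw [mul_a', mul_a'] at h3
    change _ + _ - _ * star x.1 + _ * x.1 - _ * star x.2.1 = _ + _ - x.2.2 * _ + star x.2.2 * _ - x.2.1 * _ at h3
    linear_combination h3
  have e1 := key (1, 0, 0)
  have e2 := key (w, 0, 0)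
  have e3 := key (0, 1, 0)
  have e4 := key (0, w, 0)
  have e5 := key (0, 0, 1)
  have e6 := key (0, 0, w)
  simp only [star_one, star_zero, mul_one, mul_zero, zero_mul, neg_zero, add_zero, sub_zero, zero_sub, one_mul,
    D.st w, neg_mul] at e1 e2 e3 e4 e5 e6
  simp only [pr]
  refine Prod.ext ?_ (Prod.ext ?_ ?_)
  · simp only [Prod.fst_zero]
    linear_combination - e6 + w * e5 - (g : UG K).b * hw
  · simp only [Prod.snd_zero, Prod.fst_zero]
    linear_combination - e4 + w * e3 - (g : UG K).u1 * hw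
  · simp only [Prod.snd_zero]
    linear_combination - e2 + w * e1 - (g : UG K).r * hw

theorem pr_map_zero (γ : MulAut (Q1 K)) {g : Q1 K} (h : pr g = 0) : pr (γ g) = 0 := by
  apply pr_zero_of_comm D
  intro k
  obtain ⟨k, rfl⟩ := γ.surjective k
  rw [← map_mul, ← map_mul, comm_of_pr_zero h]

theorem pr_congr (γ : MulAut (Q1 K)) {g h : Q1 K} (hgh : pr g = pr h) : pr (γ g) = pr (γ h) := by
  have h1 : pr (γ (g * h⁻¹)) = 0 := by
    apply pr_map_zero D
    rw [pr_mul, pr_inv, hgh, add_neg_cancel]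
  rw [map_mul, map_inv, pr_mul, pr_inv] at h1
  exact add_neg_eq_zero.1 h1

/-- the action on `W` -/
def Phi : MulAut (Q1 K) →* Equiv.Perm (K × K × K) where
  toFun γ :=
    { toFun := fun x => pr (γ (lift D x))
      invFun := fun x => pr (γ⁻¹ (lift D x))
      left_inv := fun x => by
        have h := pr_congr D γ⁻¹ (pr_lift D (pr (γ (lift D x))))
        exact h.trans (by rw [MulAut.inv_apply_self]; rfl)
      right_inv := fun x => by
        have h := pr_congr D γ (pr_lift D (pr (γ⁻¹ (lift D x))))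
        exact h.trans (by rw [MulAut.apply_inv_self]; rfl) }
  map_one' := by ext1 x; rfl
  map_mul' γ δ := by
    ext1 x
    exact (pr_congr D γ (pr_lift D (pr (δ (lift D x))))).symm

theorem Phi_pr (γ : MulAut (Q1 K)) (g : Q1 K) : Phi D γ (pr g) = pr (γ g) :=
  pr_congr D γ (pr_lift D (pr g))

theorem fix_Z (γ : MulAut (Q1 K)) {g : Q1 K} (h : pr g = 0) : γ g = g := by
  have h2 := D.two
  have key : ∀ k : Q1 K, pr k = 0 → (k : UG K).a = 0 ∨ (k : UG K).a = 1 := by
    intro k hk
    have h1 : (k : UG K).u1 = 0 := by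
      have := congrArg (fun x => x.2.1) hk
      exact this
    have h3 := (k : UG K).ha
    rw [h1, zero_mul, add_zero, D.st] at h3
    have h4 : (k : UG K).a * ((k : UG K).a - 1) = 0 := by
      linear_combination h3 - (k : UG K).a * h2
    rcases mul_eq_zero.1 h4 with h4 | h4
    · exact Or.inl h4
    · exact Or.inr (sub_eq_zero.1 h4)
  have h1 := pr_map_zero D γ h
  have hz : ∀ k : Q1 K, pr k = 0 → (k : UG K).a = 0 → k = 1 := by
    intro k hk hk'
    apply ext_a
    · rw [hk, pr_one]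
    · rw [hk']; rfl
  rcases key g h with h3 | h3
  · rw [hz g h h3, map_one]
  · rcases key (γ g) h1 with h4 | h4
    · have h5 := hz _ h1 h4
      have h6 : g = 1 := by
        apply γ.injective; rw [h5, map_one]
      rw [h6, map_one]
    · apply ext_a
      · rw [h, h1]
      · rw [h3, h4]

theorem sq_eq (g : Q1 K) : pr (g * g) = 0 ∧ ((g * g : Q1 K) : UG K).a = qf (pr g) := by
  constructor
  · rw [pr_mul]; exact dsmul_self D _
  · rw [mul_a']
    simp only [qf, pr]
    linear_combination ((g : UG K).a - (g : UG K).r * star (g : UG K).b - (g : UG K).u1 * star (g : UG K).u1) * D.two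

theorem isom_Phi (γ : MulAut (Q1 K)) : Isom (Phi D γ) where
  add x y := by
    have h : x + y = pr (lift D x * lift D y) := by rw [pr_mul]; rfl
    rw [h, Phi_pr, map_mul, pr_mul]
    rfl
  qf x := by
    change qf (pr (γ (lift D x))) = qf x
    rw [← (sq_eq D _).2, ← map_mul, fix_Z D γ (sq_eq D _).1, (sq_eq D _).2]
    rfl

omit D in
theorem conj_mem (x : UG K) (g : Q1 K) : x * g * x⁻¹ ∈ Q1 K := by
  have h := x.hc
  constructor
  · simp [q_u2]
  · simp only [UG.mul_c, UG.inv_c, UG.mul_u2, UG.inv_u2, q_u2, q_c, star_zero, star_neg]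
    linear_combination h

instance normal_Q1 : (Q1 K).Normal := ⟨fun g hg x => conj_mem x ⟨g, hg⟩⟩

theorem Phi_of (γ : MulAut (Q1 K)) (b u r : K) : Phi D γ (b, u, r) = pr (γ (lift D (b, u, r))) := rfl

/-- conjugation followed by a torus element -/
theorem Phi_norm (γ : MulAut (Q1 K)) (x : UG K) {d : MulAut (UG K)} {x1 x2 : K}
    (hd : IsTor d x1 x2 (RingEquiv.refl K)) (h : ∀ e : Q1 K, ((γ e : Q1 K) : UG K) = x * d e * x⁻¹) (b u r : K) :
    Phi D γ (b, u, r) = pP x.u2 (star x.c) (x1 * x2⁻¹ * b, x1 * u, x1 * x2⁻¹ * r) := by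
  have h2 := D.two
  have hx2 : star x2 = x2⁻¹ := by
    rw [D.st, ← mul_right_inj' hd.ne2, mul_inv_cancel₀ hd.ne2]
    linear_combination D.cube hd.ne2
  rw [Phi_of, pP_apply, pr, h]
  have e1 := hd.r (lift D (b, u, r))
  have e2 := hd.u1 (lift D (b, u, r))
  have e3 := hd.u2 (lift D (b, u, r))
  have e4 := hd.b (lift D (b, u, r))
  have e5 := hd.c (lift D (b, u, r))
  simp only [RingEquiv.refl_apply] at e1 e2 e3 e4 e5
  change _ = x1 * x2⁻¹ * r at e1
  change _ = x1 * u at e2
  change _ = x2 * 0 at e3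
  change _ = x1 * star x2 * b at e4
  change _ = x2 * star x2 * 0 at e5
  rw [hx2] at e4
  rw [mul_zero] at e3 e5
  refine Prod.ext ?_ (Prod.ext ?_ ?_)
  · simp only [UG.mul_b, UG.mul_u1, UG.mul_r, UG.inv_b, UG.inv_u2, UG.inv_c, UG.d,
      e1, e2, e3, e4, e5, star_zero, star_neg, star_sub, star_mul', star_star]
    linear_combination (0 : K) * h2
  · simp only [UG.mul_u1, UG.mul_r, UG.inv_u1, UG.inv_u2, e1, e2, e3]
    linear_combination (- (x1 * x2⁻¹ * r * x.u2)) * h2
  · simp only [UG.mul_r, UG.inv_r, e1]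
    ring

end Cfsg.Agent.H456.PU
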