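import Mathlib

/-!
# S5258, `StL1a` for `q = 2`: the computation in `W = K³`, `|K| = 4` (helper456)

Coordinates `(b, u, r)`. A group `X` of isometries of `W` containing the quaternion group of all `pP s c`, in which the
elements commuting with the transvection `zz = pP 0 1` are the standard ones, is the standard one.
-/

set_option autoImplicit false
set_option linter.unusedSectionVars false
set_option linter.unnecessarySeqFocus false

namespace Cfsg.Agent.H456.PU

universe u

variable {K : Type u} [Field K] [StarRing K]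

/-- the field with four elements, `w` a primitive cube root of unity -/
structure Dat (K : Type u) [Field K] [StarRing K] (w : K) : Prop where
  two : (2 : K) = 0
  st : ∀ x : K, star x = x * x
  four : ∀ x : K, x * x * x * x = x
  hw : w * w = w + 1

/-- the quaternion group -/
def pP (s c : K) : Equiv.Perm (K × K × K) where
  toFun x := (x.1 + star s * x.2.1 + c * x.2.2, x.2.1 + s * x.2.2, x.2.2)
  invFun x := (x.1 - star s * x.2.1 + (star s * s - c) * x.2.2, x.2.1 - s * x.2.2, x.2.2)
  left_inv := by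
    rintro ⟨b, u, r⟩
    ext <;> simp only <;> ring
  right_inv := by
    rintro ⟨b, u, r⟩
    ext <;> simp only <;> ring

/-- the other quaternion group -/
def pQ (β γ : K) : Equiv.Perm (K × K × K) where
  toFun x := (x.1 + β * star x.2.1 + γ * x.2.2, x.2.1 + β * star x.2.2, x.2.2)
  invFun x := (x.1 - β * star x.2.1 + (β * star β) * x.2.2 - γ * x.2.2, x.2.1 - β * star x.2.2, x.2.2)
  left_inv := by
    rintro ⟨b, u, r⟩
    ext <;> simp only [star_add, star_mul', star_star] <;> ring
  right_inv := by
    rintro ⟨b, u, r⟩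
    ext <;> simp only [star_sub, star_mul', star_star] <;> ring

/-- the opposite transvection -/
def y0 : Equiv.Perm (K × K × K) where
  toFun x := (x.1, x.2.1, x.2.2 + x.1)
  invFun x := (x.1, x.2.1, x.2.2 - x.1)
  left_inv := by
    rintro ⟨b, u, r⟩
    ext <;> simp only <;> ring
  right_inv := by
    rintro ⟨b, u, r⟩
    ext <;> simp only <;> ring

/-- the Weyl element -/
def w1p : Equiv.Perm (K × K × K) where
  toFun x := (x.2.2, x.2.1, x.1)
  invFun x := (x.2.2, x.2.1, x.1)
  left_inv := by
    rintro ⟨b, u, r⟩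
    rfl
  right_inv := by
    rintro ⟨b, u, r⟩
    rfl

/-- scalars -/
def sc (t : Kˣ) : Equiv.Perm (K × K × K) where
  toFun x := (t * x.1, t * x.2.1, t * x.2.2)
  invFun x := (t⁻¹ * x.1, t⁻¹ * x.2.1, t⁻¹ * x.2.2)
  left_inv := by
    rintro ⟨b, u, r⟩
    ext <;> simp
  right_inv := by
    rintro ⟨b, u, r⟩
    ext <;> simp

theorem pP_apply (s c b u r : K) : pP s c (b, u, r) = (b + star s * u + c * r, u + s * r, r) := rfl
theorem pQ_apply (s c b u r : K) : pQ s c (b, u, r) = (b + s * star u + c * r, u + s * star r, r) := rfl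
theorem y0_apply (b u r : K) : y0 (b, u, r) = (b, u, r + b) := rfl
theorem w1p_apply (b u r : K) : w1p (b, u, r) = (r, u, b) := rfl
theorem sc_apply (t : Kˣ) (b u r : K) : sc t (b, u, r) = (t * b, t * u, t * r) := rfl

/-- the quadratic form -/
def qf (x : K × K × K) : K := x.2.1 * star x.2.1 + (x.2.2 * star x.1 + x.1 * star x.2.2)

/-- the polar form -/
def bf (x y : K × K × K) : K :=
  (x.2.1 * star y.2.1 + x.2.2 * star y.1 + x.1 * star y.2.2) +
    (y.2.1 * star x.2.1 + y.2.2 * star x.1 + y.1 * star x.2.2)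

theorem qf_add (x y : K × K × K) : qf (x + y) = qf x + qf y + bf x y := by
  simp only [qf, bf, Prod.fst_add, Prod.snd_add, star_add]
  ring

section dat

variable {w : K} (D : Dat K w)

include D

theorem Dat.add_self (x : K) : x + x = 0 := by
  rw [← two_mul, D.two, zero_mul]

theorem Dat.neg (x : K) : -x = x := by
  rw [neg_eq_iff_add_eq_zero]; exact D.add_self x

theorem Dat.cases (x : K) : x = 0 ∨ x = 1 ∨ x = w ∨ x = w + 1 := by
  have h := D.four x
  have h2 := D.two
  have hw := D.hw
  have h1 : x * ((x + 1) * ((x + w) * (x + (w + 1)))) = 0 := by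
    linear_combination h + (x ^ 3 * (w + 1) + x ^ 2 * (2 * w + 1) + x * (w + 1)) * h2 + (x ^ 2 + x) * hw
  rcases mul_eq_zero.1 h1 with h1 | h1
  · exact Or.inl h1
  rcases mul_eq_zero.1 h1 with h1 | h1
  · right; left
    rw [← D.neg 1]; exact eq_neg_of_add_eq_zero_left h1
  rcases mul_eq_zero.1 h1 with h1 | h1
  · right; right; left
    rw [← D.neg w]; exact eq_neg_of_add_eq_zero_left h1
  · right; right; right
    rw [← D.neg (w + 1)]; exact eq_neg_of_add_eq_zero_left h1

theorem Dat.w_ne : w ≠ 0 := by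
  rintro rfl
  have := D.hw
  simp at this


theorem Dat.cube {t : K} (ht : t ≠ 0) : t * t * t = 1 := by
  have h := D.four t
  have : t * (t * t * t) = t * 1 := by rw [mul_one]; linear_combination h
  exact mul_left_cancel₀ ht this

theorem Dat.norm01 (t : K) : t * star t = 0 ∨ t * star t = 1 := by
  by_cases ht : t = 0
  · left; rw [ht, zero_mul]
  · right; rw [D.st]; linear_combination D.cube ht

theorem Dat.tr01 (t : K) : t + star t = 0 ∨ t + star t = 1 := by
  rw [D.st]
  have h2 := D.two
  have hw := D.hw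
  rcases D.cases t with rfl | rfl | rfl | rfl
  · left; ring
  · left; linear_combination h2
  · right; linear_combination hw + t * h2
  · right; linear_combination hw + (2 * w + 1) * h2

theorem bf_tr (x y : K × K × K) : bf x y = (x.2.1 * star y.2.1 + x.2.2 * star y.1 + x.1 * star y.2.2) +
    star (x.2.1 * star y.2.1 + x.2.2 * star y.1 + x.1 * star y.2.2) := by
  simp only [bf, star_add, star_mul', star_star]
  ring


theorem Dat.bf01 (x y : K × K × K) : bf x y = 0 ∨ bf x y = 1 := by
  rw [bf_tr D]
  exact D.tr01 _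

end dat

theorem ais {α : Type*} (g : Equiv.Perm α) (x : α) : g (g⁻¹ x) = x := g.apply_symm_apply x

theorem ias {α : Type*} (g : Equiv.Perm α) (x : α) : g⁻¹ (g x) = x := g.symm_apply_apply x

/-- additive isometries -/
structure Isom (g : Equiv.Perm (K × K × K)) : Prop where
  add : ∀ x y, g (x + y) = g x + g y
  qf : ∀ x, qf (g x) = qf x

namespace Isom

variable {g k : Equiv.Perm (K × K × K)}

theorem zero (hg : Isom g) : g 0 = 0 := by
  have h := hg.add 0 0
  rw [add_zero] at h
  exact left_eq_add.1 h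

theorem bf (hg : Isom g) (x y : K × K × K) : PU.bf (g x) (g y) = PU.bf x y := by
  have h1 := qf_add (g x) (g y)
  have h2 := qf_add x y
  rw [← hg.add, hg.qf, hg.qf, hg.qf, h2] at h1
  exact (add_left_cancel h1).symm

theorem inv (hg : Isom g) : Isom g⁻¹ where
  add x y := by
    apply g.injective
    rw [hg.add]
    simp only [ais]
  qf x := by
    rw [← hg.qf (g⁻¹ x), ais]

theorem mul (hg : Isom g) (hk : Isom k) : Isom (g * k) where
  add x y := by
    simp only [Equiv.Perm.mul_apply, hk.add, hg.add]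
  qf x := by
    rw [Equiv.Perm.mul_apply, hg.qf, hk.qf]

theorem smul (hg : Isom g) {t : K} (ht : t = 0 ∨ t = 1) (v : K × K × K) : g (t • v) = t • g v := by
  rcases ht with rfl | rfl
  · rw [zero_smul, zero_smul, hg.zero]
  · rw [one_smul, one_smul]

end Isom

/-- the transvection of the totally singular plane spanned by `a`, `b` -/
def Y (a b x : K × K × K) : K × K × K := x + bf x b • a + bf x a • b

section dat

variable {w : K} (D : Dat K w)

include D

theorem conj_Y {k : Equiv.Perm (K × K × K)} (hk : Isom k) (a b x : K × K × K) :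
    k (Y a b (k⁻¹ x)) = Y (k a) (k b) x := by
  have h1 : ∀ v, bf (k⁻¹ x) v = bf x (k v) := by
    intro v
    rw [← hk.bf (k⁻¹ x) v, ais]
  rw [Y, Y, hk.add, hk.add, hk.smul (D.bf01 _ _), hk.smul (D.bf01 _ _), ais, h1, h1]

theorem dsmul_self (x : K × K × K) : x + x = 0 := by
  ext <;> exact D.add_self _

theorem bf_add_right (x a b : K × K × K) : bf x (a + b) = bf x a + bf x b := by
  simp only [bf, Prod.fst_add, Prod.snd_add, star_add]
  ring

theorem bf_comm (x y : K × K × K) : bf x y = bf y x := by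
  simp only [bf]; ring

theorem Y_add (a b x : K × K × K) : Y a (a + b) x = Y a b x := by
  rw [Y, Y, bf_add_right D, add_smul, smul_add]
  have h := dsmul_self D (bf x a • a)
  calc x + (bf x a • a + bf x b • a) + (bf x a • a + bf x a • b)
      = x + bf x b • a + bf x a • b + (bf x a • a + bf x a • a) := by abel
    _ = _ := by rw [h, add_zero]

theorem zz_eq {t : K} (ht : t ≠ 0) (x : K × K × K) : pP 0 1 x = Y (t, 0, 0) (t * w, 0, 0) x := by
  obtain ⟨b, u, r⟩ := x
  have h2 := D.two
  have hw := D.hw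
  have hc := D.cube ht
  rw [pP_apply, Y]
  simp only [bf, D.st, Prod.smul_mk, Prod.mk_add_mk, smul_eq_mul, mul_zero, add_zero, zero_mul, zero_add]
  ext
  · simp only
    linear_combination (-r * w - r * (w * w)) * hc - r * hw - (r * w) * h2 - (r ^ 2 * t ^ 2 * w) * h2
  · simp only
  · simp only


theorem isom_pP {s c : K} (h : c + star c + s * star s = 0) : Isom (pP s c) where
  add x y := by
    obtain ⟨b, u, r⟩ := x
    obtain ⟨b', u', r'⟩ := y
    simp only [Prod.mk_add_mk, pP_apply]
    ext <;> simp only <;> ring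
  qf x := by
    obtain ⟨b, u, r⟩ := x
    simp only [pP_apply, qf, star_add, star_mul', star_star]
    linear_combination (r * star r) * h + (u * star s * star r + s * r * star u) * D.two

theorem isom_pQ {s c : K} (h : c + star c + s * star s = 0) : Isom (pQ s c) where
  add x y := by
    obtain ⟨b, u, r⟩ := x
    obtain ⟨b', u', r'⟩ := y
    simp only [Prod.mk_add_mk, pQ_apply, star_add]
    ext <;> simp only <;> ring
  qf x := by
    obtain ⟨b, u, r⟩ := x
    simp only [pQ_apply, qf, star_add, star_mul', star_star]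
    linear_combination (r * star r) * h + (u * r * star s + s * star r * star u) * D.two

theorem y0_eq (x : K × K × K) : y0 x = Y (0, 0, 1) (0, 0, w) x := by
  obtain ⟨b, u, r⟩ := x
  have h2 := D.two
  have hw := D.hw
  rw [y0_apply, Y]
  simp only [bf, D.st, Prod.smul_mk, Prod.mk_add_mk, smul_eq_mul, mul_zero, add_zero, zero_mul, zero_add, mul_one,
    one_mul]
  ext
  · simp only
  · simp only
  · simp only
    linear_combination (- b) * hw - (b * w + b ^ 2 * w) * h2

theorem pQ_comm (s c β γ : K) : pP s c * pQ β γ = pQ β γ * pP s c := by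
  ext x
  all_goals
    obtain ⟨b, u, r⟩ := x
    simp only [Equiv.Perm.mul_apply, pP_apply, pQ_apply, star_add, star_mul']
  · ring
  · ring

theorem pQ_zero (γ : K) : pQ 0 γ = pP 0 γ := by
  ext x
  all_goals
    obtain ⟨b, u, r⟩ := x
    simp only [pP_apply, pQ_apply, star_zero, zero_mul]

theorem pP_mul_zero (s c γ : K) : pP s c * pP 0 γ = pP s (c + γ) := by
  ext x
  all_goals
    obtain ⟨b, u, r⟩ := x
    simp only [Equiv.Perm.mul_apply, pP_apply, star_zero, zero_mul]
  all_goals ring

theorem w1_eq : (w1p : Equiv.Perm (K × K × K)) = pP 0 1 * y0 * pP 0 1 := by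
  ext x
  all_goals
    obtain ⟨b, u, r⟩ := x
    simp only [Equiv.Perm.mul_apply, pP_apply, y0_apply, w1p_apply, star_zero, zero_mul, one_mul, add_zero]
  · linear_combination (- b - r) * D.two
  · linear_combination (- r) * D.two

theorem y0_conj : (y0 : Equiv.Perm (K × K × K)) = w1p * pP 0 1 * w1p⁻¹ := by
  rw [eq_mul_inv_iff_mul_eq]
  ext x
  all_goals
    obtain ⟨b, u, r⟩ := x
    simp only [Equiv.Perm.mul_apply, pP_apply, y0_apply, w1p_apply, star_zero, zero_mul, one_mul, add_zero]

theorem sc_comm (t : Kˣ) (s c : K) : sc t * pP s c = pP s c * sc t := by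
  ext x
  all_goals
    obtain ⟨b, u, r⟩ := x
    simp only [Equiv.Perm.mul_apply, pP_apply, sc_apply]
  all_goals ring

theorem sc_word (t : Kˣ) (ht : (t : K) = w) :
    sc t = y0 * pP w w * y0 * pP (w + 1) w * y0 * pP 1 w := by
  have h2 := D.two
  have hw := D.hw
  ext x
  all_goals
    obtain ⟨b, u, r⟩ := x
    simp only [Equiv.Perm.mul_apply, pP_apply, sc_apply, y0_apply, D.st, ht]
  · linear_combination ((-3) * w ^ 0 * b + (-1) * w ^ 1 * b + (-8) * w ^ 0 * u + (-2) * w ^ 1 * u + (-15) * w ^ 0 * r + (-5) * w ^ 1 * r + (-1) * w ^ 2 * r) * hw + ((-2) * w ^ 0 * b + (-3) * w ^ 1 * b + (-5) * w ^ 0 * u + (-8) * w ^ 1 * u + (-8) * w ^ 0 * r + (-13) * w ^ 1 * r) * h2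
  · linear_combination ((-1) * w ^ 0 * b + (-4) * w ^ 0 * u + (-1) * w ^ 1 * u + (-8) * w ^ 0 * r + (-2) * w ^ 1 * r) * hw + ((-1) * w ^ 0 * b + (-2) * w ^ 1 * b + (-3) * w ^ 0 * u + (-4) * w ^ 1 * u + (-5) * w ^ 0 * r + (-7) * w ^ 1 * r) * h2
  · linear_combination ((-3) * w ^ 0 * b + (-1) * w ^ 1 * b + (-9) * w ^ 0 * u + (-2) * w ^ 1 * u + (-17) * w ^ 0 * r + (-5) * w ^ 1 * r + (-1) * w ^ 2 * r) * hw + ((-3) * w ^ 0 * b + (-4) * w ^ 1 * b + (-7) * w ^ 0 * u + (-10) * w ^ 1 * u + (-10) * w ^ 0 * r + (-16) * w ^ 1 * r) * h2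

end dat

end Cfsg.Agent.H456.PU
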