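import Cfsg.Agent.H456.PU.W

/-!
# S5258, `StL1a` for `q = 2`: groups of isometries containing the quaternion group (helper456)
-/

set_option autoImplicit false
set_option linter.unusedSectionVars false
set_option linter.unnecessarySeqFocus false

namespace Cfsg.Agent.H456.PU

universe u

variable {K : Type u} [Field K] [StarRing K]

/-- the hypotheses on the group `X` of isometries -/
structure Hyp (X : Subgroup (Equiv.Perm (K × K × K))) : Prop where
  iso : ∀ g ∈ X, Isom g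
  hP : ∀ s c : K, c + star c + s * star s = 0 → pP s c ∈ X
  cz : ∀ g ∈ X, g * pP 0 1 = pP 0 1 * g → ∃ s c m l : K, c + star c + s * star s = 0 ∧ m ≠ 0 ∧ l ≠ 0 ∧
    ∀ b u r, g (b, u, r) = pP s c (m * b, l * u, m * r)

variable {w : K} (D : Dat K w)

include D

theorem zz_rel : (1 : K) + star 1 + 0 * star 0 = 0 := by
  rw [star_one, zero_mul, add_zero]; exact D.add_self 1

theorem sq_one {m : K} (h : m * m = 1) : m = 1 := by
  have h1 : (m - 1) * (m - 1) = 0 := by linear_combination h + (1 - m) * D.two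
  rcases mul_eq_zero.1 h1 with h1 | h1 <;> exact sub_eq_zero.1 h1

theorem cube_zero {s : K} (h : s * star s = 0) : s = 0 := by
  rcases mul_eq_zero.1 h with h | h
  · exact h
  · exact (star_eq_zero.1 h)

theorem add_one_ne : w + 1 ≠ 0 := by
  intro h
  have hw := D.hw
  rw [h] at hw
  exact D.w_ne (mul_self_eq_zero.1 hw)

theorem w_ne_one : w ≠ 1 := by
  rintro rfl
  have hw := D.hw
  rw [mul_one] at hw
  have : (1 : K) = 0 := by linear_combination - hw
  exact one_ne_zero this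

variable {X : Subgroup (Equiv.Perm (K × K × K))} (H : Hyp X)

include H

theorem uniq {g : Equiv.Perm (K × K × K)} (hg : g ∈ X) (h2 : g * g = 1) (h1 : g ≠ 1)
    (hc : g * pP 0 1 = pP 0 1 * g) : g = pP 0 1 := by
  obtain ⟨s, c, m, l, hr, hm, hl, hf⟩ := H.cz g hg hc
  have hgg : ∀ x, g (g x) = x := fun x => by rw [← Equiv.Perm.mul_apply, h2]; rfl
  have e1 := hgg (0, 0, 1)
  rw [hf, pP_apply, hf, pP_apply] at e1
  simp only [mul_zero, zero_add, mul_one, Prod.mk.injEq] at e1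
  have e2 := hgg (0, 1, 0)
  rw [hf, pP_apply, hf, pP_apply] at e2
  simp only [mul_zero, zero_add, mul_one, Prod.mk.injEq, add_zero] at e2
  have hm1 := sq_one D e1.2.2
  have hl1 := sq_one D e2.2.1
  subst hm1 hl1
  have hs : s = 0 := by
    apply cube_zero D
    linear_combination e1.1 - c * D.two
  subst hs
  have hgP : g = pP 0 c := by
    ext1 ⟨b, u, r⟩
    rw [hf, one_mul, one_mul, one_mul]
  rw [zero_mul, add_zero, D.st] at hr
  rcases D.cases c with rfl | rfl | rfl | rfl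
  · exfalso
    apply h1
    rw [hgP]
    ext1 ⟨b, u, r⟩
    rw [pP_apply]
    simp
  · exact hgP
  · exfalso
    have : (1 : K) = 0 := by linear_combination hr - D.hw - c * D.two
    exact one_ne_zero this
  · exfalso
    have : (1 : K) = 0 := by linear_combination hr - D.hw - (2 * w + 1) * D.two
    exact one_ne_zero this

theorem key [Finite K] {g : Equiv.Perm (K × K × K)} (hg : g ∈ X) (hc : g * pP 0 1 ≠ pP 0 1 * g) :
    ∃ s c β γ : K, c + star c + s * star s = 0 ∧ γ + star γ + β * star β = 0 ∧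
      g * pP 0 1 * g⁻¹ = (pP s c * pQ β γ) * y0 * (pP s c * pQ β γ)⁻¹ := by
  have h2 := D.two
  have hw := D.hw
  have hgi := H.iso g hg
  set yy := g * pP 0 1 * g⁻¹ with hyy
  have hzz : (pP 0 1 : Equiv.Perm (K × K × K)) * pP 0 1 = 1 := by
    rw [pP_mul_zero D]
    ext1 ⟨b, u, r⟩
    rw [pP_apply, D.add_self]
    simp
  have hyX : yy ∈ X := X.mul_mem (X.mul_mem hg (H.hP 0 1 (zz_rel D))) (X.inv_mem hg)
  have hy2 : yy * yy = 1 := by
    rw [hyy]
    calc g * pP 0 1 * g⁻¹ * (g * pP 0 1 * g⁻¹) = g * (pP 0 1 * pP 0 1) * g⁻¹ := by group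
      _ = 1 := by rw [hzz]; group
  have hy1 : yy ≠ 1 := by
    intro h
    have h3 : (pP 0 1 : Equiv.Perm (K × K × K)) = 1 := by
      have : (pP 0 1 : Equiv.Perm (K × K × K)) = g⁻¹ * yy * g := by rw [hyy]; group
      rw [this, h]; group
    apply hc
    rw [h3, mul_one, one_mul]
  have hnc : yy * pP 0 1 ≠ pP 0 1 * yy := by
    intro h
    have h3 := uniq D H hyX hy2 hy1 h
    apply hc
    rw [hyy, mul_inv_eq_iff_eq_mul] at h3
    exact h3
  have hY : ∀ t : K, t ≠ 0 → ∀ x, yy x = Y (g (t, 0, 0)) (g (t * w, 0, 0)) x := by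
    intro t ht x
    rw [← conj_Y D hgi, ← zz_eq D ht]
    rfl
  have hr : ∀ t : K, t ≠ 0 → (g (t, 0, 0)).2.2 ≠ 0 := by
    intro t ht h0
    apply hnc
    have hq : qf (g (t, 0, 0)) = 0 := by
      rw [hgi.qf]; simp [qf]
    have hb : bf (g (t, 0, 0)) (g (t * w, 0, 0)) = 0 := by
      rw [hgi.bf]; simp [bf]
    have hYt := hY t ht
    generalize g (t, 0, 0) = a at hq hb hYt h0
    generalize g (t * w, 0, 0) = b at hb hYt
    obtain ⟨a1, a2, a3⟩ := a
    obtain ⟨b1, b2, b3⟩ := b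
    simp only at h0
    subst h0
    have ha2 : a2 = 0 := by
      apply cube_zero D
      simpa [qf] using hq
    subst ha2
    simp only [bf, zero_mul, star_zero, mul_zero, zero_add, add_zero] at hb
    -- `a₁ b₃* + b₃ a₁* = 0`
    ext1 x
    change yy (pP 0 1 x) = pP 0 1 (yy x)
    rw [hYt, hYt]
    have hz := isom_pP D (zz_rel D)
    rw [Y, Y, hz.add, hz.add, hz.smul (D.bf01 _ _), hz.smul (D.bf01 _ _)]
    obtain ⟨x1, x2, x3⟩ := x
    simp only [pP_apply, bf, zero_mul, star_zero, mul_zero, zero_add, add_zero, one_mul, star_add,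
      Prod.smul_mk, smul_eq_mul, Prod.mk_add_mk]
    refine Prod.ext ?_ (Prod.ext ?_ ?_)
    · simp only
      linear_combination x3 * hb + (- (x3 * star a1 * b3)) * h2
    · simp only
    · simp only
  -- the vector with third coordinate `1`
  obtain ⟨t, ht⟩ : ∃ t : K, (g (t, 0, 0)).2.2 = 1 := by
    have hadd : ∀ t t' : K, (g (t + t', 0, 0)).2.2 = (g (t, 0, 0)).2.2 + (g (t', 0, 0)).2.2 := by
      intro t t'
      have : ((t + t', 0, 0) : K × K × K) = (t, 0, 0) + (t', 0, 0) := by simp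
      rw [this, hgi.add]; rfl
    have hinj : Function.Injective (fun t : K => (g (t, 0, 0)).2.2) := by
      intro t t' h
      simp only at h
      by_contra hne
      apply hr (t + t')
      · intro h0
        apply hne
        rw [← D.neg t']; exact eq_neg_of_add_eq_zero_left h0
      · rw [hadd, h]; exact D.add_self _
    exact (Finite.surjective_of_injective hinj) 1
  have ht0 : t ≠ 0 := by
    rintro rfl
    have : ((0, 0, 0) : K × K × K) = 0 := rfl
    rw [this, hgi.zero] at ht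
    exact zero_ne_one ht
  obtain ⟨a, b, ha, hb, hqa, hqb, hab, hYab⟩ : ∃ a b : K × K × K, a.2.2 = 1 ∧ b.2.2 = w ∧ qf a = 0 ∧ qf b = 0 ∧
      bf a b = 0 ∧ ∀ x, yy x = Y a b x := by
    have hqa : qf (g (t, 0, 0)) = 0 := by rw [hgi.qf]; simp [qf]
    have hqb : qf (g (t * w, 0, 0)) = 0 := by rw [hgi.qf]; simp [qf]
    have hab : bf (g (t, 0, 0)) (g (t * w, 0, 0)) = 0 := by rw [hgi.bf]; simp [bf]
    rcases D.cases (g (t * w, 0, 0)).2.2 with h | h | h | h
    · exact absurd h (hr _ (mul_ne_zero ht0 D.w_ne))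
    · exfalso
      refine hr (t * (w + 1)) (mul_ne_zero ht0 (add_one_ne D)) ?_
      have : ((t * (w + 1), 0, 0) : K × K × K) = (t, 0, 0) + (t * w, 0, 0) := by
        ext <;> simp; ring
      rw [this, hgi.add]
      change (g (t, 0, 0)).2.2 + (g (t * w, 0, 0)).2.2 = 0
      rw [ht, h]; exact D.add_self 1
    · exact ⟨_, _, ht, h, hqa, hqb, hab, hY t ht0⟩
    · refine ⟨g (t, 0, 0), g (t, 0, 0) + g (t * w, 0, 0), ht, ?_, hqa, ?_, ?_, ?_⟩
      · change (g (t, 0, 0)).2.2 + (g (t * w, 0, 0)).2.2 = w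
        rw [ht, h]; linear_combination h2
      · rw [qf_add, hqa, hqb, hab]; simp
      · rw [bf_add_right D, hab, add_zero, bf]
        exact D.add_self _
      · intro x
        rw [Y_add D]; exact hY t ht0 x
  obtain ⟨x1, s1, r1⟩ := a
  obtain ⟨x2, s2, r2⟩ := b
  simp only at ha hb
  subst r1 r2
  obtain ⟨β, hβ⟩ : ∃ β, β = s2 + s1 * w := ⟨_, rfl⟩
  obtain ⟨s, hs⟩ : ∃ s, s = s1 + β := ⟨_, rfl⟩
  obtain ⟨c, hcdef⟩ : ∃ c, c = w * (s * star s) := ⟨_, rfl⟩
  obtain ⟨γ, hγ⟩ : ∃ γ, γ = x1 + star s * β + c := ⟨_, rfl⟩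
  have hNs : star (s * star s) = s * star s := by rw [star_mul', star_star, mul_comm]
  have hrc : c + star c + s * star s = 0 := by
    rw [hcdef, star_mul', hNs, D.st w]
    linear_combination (s * star s) * hw + (s * star s) * (w + 1) * h2
  have hrγ : γ + star γ + β * star β = 0 := by
    have h3 : x1 + star x1 + s1 * star s1 = 0 := by
      simp only [qf, star_one, mul_one, one_mul] at hqa
      linear_combination hqa
    have h4 : star s = star s1 + star β := by rw [hs, star_add]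
    rw [hγ, star_add, star_add, star_mul', star_star]
    rw [h4, hs] at hrc ⊢
    linear_combination h3 + hrc + (star β * β - star s1 * s1) * h2
  refine ⟨s, c, β, γ, hrc, hrγ, ?_⟩
  have hk : Isom (pP s c * pQ β γ) := (isom_pP D hrc).mul (isom_pQ D hrγ)
  have hk1 : (pP s c * pQ β γ) (0, 0, 1) = (x1, s1, 1) := by
    rw [Equiv.Perm.mul_apply, pQ_apply, pP_apply]
    simp only [star_zero, mul_zero, star_one, mul_one, zero_add]
    refine Prod.ext ?_ (Prod.ext ?_ rfl)
    · simp only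
      rw [hγ]
      linear_combination (star s * β + c) * h2
    · simp only
      rw [hs]
      linear_combination β * h2
  have hk2 : ∃ e, (pP s c * pQ β γ) (0, 0, w) = (e, s2, w) := by
    rw [Equiv.Perm.mul_apply, pQ_apply, pP_apply, D.st w]
    refine ⟨_, Prod.ext rfl (Prod.ext ?_ rfl)⟩
    simp only [zero_add]
    rw [hs, hβ]
    linear_combination (s2 + s1 * w) * hw + ((s2 + s1 * w) * w + s1 * w) * h2
  obtain ⟨e, hk2⟩ := hk2
  have hq2 := hk.qf (0, 0, w)
  have hb2 := hk.bf (0, 0, 1) (0, 0, w)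
  rw [hk2] at hq2 hb2
  rw [hk1] at hb2
  have he : e = x2 := by
    simp only [qf, bf, star_zero, mul_zero, zero_mul, add_zero, star_one, mul_one, one_mul] at hq2 hb2 hqb hab
    -- `δ* = δ` and `w δ* + w* δ = 0`
    have h3 : star e - star x2 = - (e - x2) := by linear_combination hb2 - hab
    have h4 : w * (star e - star x2) + (e - x2) * star w = 0 := by linear_combination hq2 - hqb
    rw [h3, D.st w] at h4
    have h5 : (e - x2) = 0 := by linear_combination h4 - (e - x2) * hw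
    exact sub_eq_zero.1 h5
  subst he
  ext1 x
  rw [hYab]
  change _ = (pP s c * pQ β γ) (y0 ((pP s c * pQ β γ)⁻¹ x))
  rw [y0_eq D, conj_Y D hk, hk1, hk2]

theorem pQ_inv_apply (β γ b u r : K) : (pQ β γ)⁻¹ (b, u, r) =
    (b - β * star u + (β * star β) * r - γ * r, u - β * star r, r) := rfl

theorem rel_one : w + star w + 1 * star 1 = 0 := by
  rw [star_one, D.st]
  linear_combination D.hw + (w + 1) * D.two

theorem rel_w : w + star w + w * star w = 0 := by
  rw [D.st w]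
  linear_combination (1 + w + 1) * D.hw + (2 * w + 1) * D.two

theorem rel_w1 : w + star w + (w + 1) * star (w + 1) = 0 := by
  rw [D.st, D.st (w + 1)]
  linear_combination (w + 5) * D.hw + (5 * w + 3) * D.two

/-- the antilinear part is trivial -/
theorem key2 [Finite K] (t : Kˣ) (ht : (t : K) = w) {g : Equiv.Perm (K × K × K)} (hg : g ∈ X)
    (hc : g * pP 0 1 ≠ pP 0 1 * g) :
    ∃ s c : K, c + star c + s * star s = 0 ∧ y0 ∈ X ∧ sc t ∈ X ∧ g * pP 0 1 * g⁻¹ = pP s c * y0 * (pP s c)⁻¹ := by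
  obtain ⟨s, c, β, γ, h1, h2, h3⟩ := key D H hg hc
  have hyX : g * pP 0 1 * g⁻¹ ∈ X := X.mul_mem (X.mul_mem hg (H.hP 0 1 (zz_rel D))) (X.inv_mem hg)
  have hp := H.hP s c h1
  have hC : ∀ k : Equiv.Perm (K × K × K), k ∈ X.comap (MulAut.conj (pQ β γ)).toMonoidHom ↔
      pQ β γ * k * (pQ β γ)⁻¹ ∈ X := fun k => Iff.rfl
  have hyC : y0 ∈ X.comap (MulAut.conj (pQ β γ)).toMonoidHom := by
    rw [hC]
    have : pQ β γ * y0 * (pQ β γ)⁻¹ = (pP s c)⁻¹ * (g * pP 0 1 * g⁻¹) * pP s c := by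
      rw [h3]; group
    rw [this]
    exact X.mul_mem (X.mul_mem (X.inv_mem hp) hyX) hp
  have hPC : ∀ s c : K, c + star c + s * star s = 0 → pP s c ∈ X.comap (MulAut.conj (pQ β γ)).toMonoidHom := by
    intro s c h
    rw [hC, ← pQ_comm D, mul_inv_cancel_right]
    exact H.hP s c h
  have hscC : sc t ∈ X.comap (MulAut.conj (pQ β γ)).toMonoidHom := by
    rw [sc_word D t ht]
    exact mul_mem (mul_mem (mul_mem (mul_mem (mul_mem hyC (hPC _ _ (rel_w D H))) hyC) (hPC _ _ (rel_w1 D H))) hyC)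
      (hPC _ _ (rel_one D H))
  rw [hC] at hscC
  have hβ : β = 0 := by
    obtain ⟨s', c', m, l, -, -, -, hf⟩ := H.cz _ hscC (by
      calc pQ β γ * sc t * (pQ β γ)⁻¹ * pP 0 1
          = pQ β γ * sc t * ((pQ β γ)⁻¹ * pP 0 1 * pQ β γ) * (pQ β γ)⁻¹ := by group
        _ = pQ β γ * sc t * pP 0 1 * (pQ β γ)⁻¹ := by
            rw [mul_assoc (pQ β γ)⁻¹, pQ_comm D, inv_mul_cancel_left]
        _ = pP 0 1 * pQ β γ * sc t * (pQ β γ)⁻¹ := by
            rw [mul_assoc (pQ β γ), sc_comm D, ← mul_assoc, ← pQ_comm D]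
        _ = pP 0 1 * (pQ β γ * sc t * (pQ β γ)⁻¹) := by group)
    have e1 := congrArg (fun x => x.2.1) (hf 0 0 1)
    have e2 := congrArg (fun x => x.2.1) (hf 0 0 w)
    change ((pQ β γ) (sc t ((pQ β γ)⁻¹ _))).2.1 = _ at e1 e2
    rw [pQ_inv_apply D H, sc_apply, pQ_apply, pP_apply] at e1 e2
    simp only [D.st, ht, mul_zero, mul_one, zero_add, zero_sub] at e1 e2
    have hw := D.hw
    have h2 := D.two
    linear_combination e2 - w * e1 - β * (w ^ 2 - w + 1) * hw
  subst hβ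
  rw [pQ_zero D, pP_mul_zero D] at h3
  have hr0 : γ + star γ = 0 := by simpa using h2
  have hr1 : (c + γ) + star (c + γ) + s * star s = 0 := by
    rw [star_add]; linear_combination h1 + hr0
  have hp1 := H.hP _ _ hr1
  have hy0 : y0 ∈ X := by
    have : y0 = (pP s (c + γ))⁻¹ * (g * pP 0 1 * g⁻¹) * pP s (c + γ) := by
      rw [h3]; group
    rw [this]
    exact X.mul_mem (X.mul_mem (X.inv_mem hp1) hyX) hp1
  refine ⟨s, c + γ, hr1, hy0, ?_, h3⟩
  rw [sc_word D t ht]
  exact mul_mem (mul_mem (mul_mem (mul_mem (mul_mem hy0 (H.hP _ _ (rel_w D H))) hy0) (H.hP _ _ (rel_w1 D H))) hy0)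
    (H.hP _ _ (rel_one D H))

/-- **the main result on `W`** -/
theorem main [Finite K] (t : Kˣ) (ht : (t : K) = w) (hne : ∃ g ∈ X, g * pP 0 1 ≠ pP 0 1 * g) :
    sc t ∈ X ∧ w1p ∈ X ∧ ∀ g ∈ X, g * pP 0 1 ≠ pP 0 1 * g →
      ∃ s c : K, c + star c + s * star s = 0 ∧
        ((pP s c * w1p)⁻¹ * g) * pP 0 1 = pP 0 1 * ((pP s c * w1p)⁻¹ * g) := by
  obtain ⟨g, hg, hc⟩ := hne
  obtain ⟨s, c, h1, hy0, hsc, h3⟩ := key2 D H t ht hg hc
  refine ⟨hsc, ?_, ?_⟩
  · rw [w1_eq D]
    exact mul_mem (mul_mem (H.hP 0 1 (zz_rel D)) hy0) (H.hP 0 1 (zz_rel D))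
  · intro g hg hc
    obtain ⟨s, c, h1, -, -, h3⟩ := key2 D H t ht hg hc
    refine ⟨s, c, h1, ?_⟩
    rw [y0_conj D] at h3
    have h4 : g * pP 0 1 = (pP s c * w1p) * pP 0 1 * (pP s c * w1p)⁻¹ * g := by
      rw [← mul_inv_eq_iff_eq_mul, h3]; group
    calc (pP s c * w1p)⁻¹ * g * pP 0 1 = (pP s c * w1p)⁻¹ * (g * pP 0 1) := by group
      _ = pP 0 1 * ((pP s c * w1p)⁻¹ * g) := by rw [h4]; group

end Cfsg.Agent.H456.PU
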